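import Cfsg.Agent.H773.Pw.Spor
import Cfsg.Agent.H492.IMHe

/-!
# S2454, the Held group (helper173)

For every prime divisor `p` of the order an element of order 17 is a product of two elements of order `p` (explicit words).
-/

set_option autoImplicit false
set_option maxRecDepth 100000

namespace Cfsg.Agent.H173.Pw

open Cfsg Subgroup Cfsg.Agent.H514.DP Cfsg.Agent.H773.Pw

universe u

/-- the centralizers of the elements of order `r` have the same order if `r` divides the order once -/
theorem card_cent_eq {G : Type*} [Group G] [Finite G] {r : ℕ} (hr : r.Prime) (hfac : (Nat.card G).factorization r = 1)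
    {x y : G} (hx : orderOf x = r) (hy : orderOf y = r) :
    Nat.card (centralizer ({x} : Set G)) = Nat.card (centralizer ({y} : Set G)) := by
  have : Fact r.Prime := ⟨hr⟩
  let P : Sylow r G := Sylow.ofCard (zpowers x) (by rw [Nat.card_zpowers, hx, hfac, pow_one])
  let Q : Sylow r G := Sylow.ofCard (zpowers y) (by rw [Nat.card_zpowers, hy, hfac, pow_one])
  obtain ⟨g, hg⟩ := MulAction.exists_smul_eq G P Q
  have hmem : g * x * g⁻¹ ∈ zpowers y := by
    have h1 : (Q : Subgroup G) = zpowers y := rfl
    rw [← h1, ← hg, Sylow.coe_subgroup_smul]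
    exact ⟨x, mem_zpowers x, rfl⟩
  have hz : zpowers (g * x * g⁻¹) = zpowers y := by
    apply Subgroup.eq_of_le_of_card_ge (zpowers_le.2 hmem)
    rw [Nat.card_zpowers, Nat.card_zpowers, hy, ← hx]
    have h3 : SemiconjBy g x (g * x * g⁻¹) := by
      show g * x = g * x * g⁻¹ * g
      group
    rw [h3.orderOf_eq]
  have hcz : ∀ a : G, centralizer ({a} : Set G) = centralizer (zpowers a : Set G) := by
    intro a
    ext c
    rw [mem_centralizer_singleton_iff, mem_centralizer_iff]
    constructor
    · rintro h _ ⟨k, rfl⟩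
      exact ((show Commute a c from h.symm).zpow_left k)
    · intro h
      exact (h a (mem_zpowers a)).symm
  have h2 : Nat.card (centralizer ({g * x * g⁻¹} : Set G)) = Nat.card (centralizer ({x} : Set G)) := by
    refine Nat.card_congr ⟨fun c => ⟨g⁻¹ * c * g, ?_⟩, fun c => ⟨g * c * g⁻¹, ?_⟩, fun c => ?_, fun c => ?_⟩
    · have h := mem_centralizer_singleton_iff.1 c.2
      rw [mem_centralizer_singleton_iff]
      calc g⁻¹ * (c : G) * g * x = g⁻¹ * ((c : G) * (g * x * g⁻¹)) * g := by group
        _ = g⁻¹ * ((g * x * g⁻¹) * (c : G)) * g := by rw [h]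
        _ = x * (g⁻¹ * (c : G) * g) := by group
    · have h := mem_centralizer_singleton_iff.1 c.2
      rw [mem_centralizer_singleton_iff]
      calc g * (c : G) * g⁻¹ * (g * x * g⁻¹) = g * ((c : G) * x) * g⁻¹ := by group
        _ = g * (x * (c : G)) * g⁻¹ := by rw [h]
        _ = g * x * g⁻¹ * (g * (c : G) * g⁻¹) := by group
    · apply Subtype.ext
      show g * (g⁻¹ * (c : G) * g) * g⁻¹ = c
      group
    · apply Subtype.ext
      show g⁻¹ * (g * (c : G) * g⁻¹) * g = c
      group
  rw [← h2, hcz (g * x * g⁻¹), hz, ← hcz]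

namespace He

open Cfsg.Spor.He (Gen)
open Cfsg.Agent.SporadicB.HePerm (act wd)
open Cfsg.Agent.KFacts.He.Lv (wd_append)
open Cfsg.Agent.H492.IMHeCnt Cfsg.Agent.H492.IMHe

/-- `y` of order 17 is a product of two elements of order `p` -/
def Prod (p : ℕ) : Prop := ∃ a b : Cfsg.Spor.He, orderOf a = p ∧ orderOf b = p ∧ orderOf (a * b) = 17

theorem Prod.of_words {p : ℕ} (v w : List Gen) (hv : orderOf (wd v) = p) (hw : orderOf (wd w) = p)
    (h : orderOf (wd (v ++ w)) = 17) : Prod p := ⟨wd v, wd w, hv, hw, by rw [← wd_append]; exact h⟩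

theorem prod2 : Prod 2 := Prod.of_words [.b, .d] [.c, .f] (orderOf_of (by decide) (by decide +kernel))
  (orderOf_of (by decide) (by decide +kernel)) (orderOf_of (by decide) (by decide +kernel))

theorem prod3 : Prod 3 := Prod.of_words [.b, .c] [.d, .f] (orderOf_of (by decide) (by decide +kernel))
  (orderOf_of (by decide) (by decide +kernel)) (orderOf_of (by decide) (by decide +kernel))

theorem prod5 : Prod 5 := Prod.of_words [.a, .c, .d] [.b, .f, .a, .d, .c, .f, .b]
  (orderOf_of (by decide) (by decide +kernel))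
  (orderOf_of (by decide) (by decide +kernel)) (orderOf_of (by decide) (by decide +kernel))

theorem prod7 : Prod 7 := Prod.of_words [.d, .f, .g, .d, .e] [.f, .e, .d, .g, .c, .b, .d, .c]
  (orderOf_of (by decide) (by decide +kernel))
  (orderOf_of (by decide) (by decide +kernel)) (orderOf_of (by decide) (by decide +kernel))

end He

open He in
/-- **S2454, He.** -/
theorem pw_he {S : Type u} [Group S] [Finite S] [IsSimpleGroup S] (h : Spor.IsoHe S) {p : ℕ} (hp : p.Prime)
    (hd : p ∣ Nat.card S) : PW p 70 S := by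
  obtain ⟨e⟩ := h
  have hc : Nat.card S = 4030387200 := by
    rw [Nat.card_congr e.toEquiv, Cfsg.Agent.FixBN.HeStab.card_he]
  have h17 : Nat.Prime 17 := by norm_num
  have hna : ¬ ∀ a b : S, a * b = b * a :=
    H253.TC.not_comm_of_card hc (by norm_num) h17 (by norm_num) (by norm_num)
  have hD : MinDeg S 9 := minDeg_of_prime hc (by norm_num) h17 (by norm_num) (by norm_num) (by norm_num) (by norm_num)
    (by norm_num) (by norm_num)
  have hfin : Finite Cfsg.Spor.He := Finite.of_equiv S e.toEquiv
  have hcent : ∀ y : S, orderOf y = 17 → Nat.card (centralizer ({y} : Set S)) ≤ 17 := by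
    intro y hy
    have h1 : Nat.card (centralizer ({e y} : Set Cfsg.Spor.He)) = 17 := by
      rw [← Cfsg.Agent.H492.IMHe.card17]
      exact card_cent_eq h17 Cfsg.Agent.H492.IMHe.fact17 (by rw [e.orderOf_eq, hy]) Cfsg.Agent.H492.IMHe.o17
    rw [← h1]
    refine Nat.card_le_card_of_injective (fun c : centralizer ({y} : Set S) =>
      (⟨e c, ?_⟩ : centralizer ({e y} : Set Cfsg.Spor.He))) ?_
    · have h := mem_centralizer_singleton_iff.1 c.2
      rw [mem_centralizer_singleton_iff, ← map_mul, h, map_mul]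
    · intro a b hab
      exact Subtype.ext (e.injective (congrArg Subtype.val hab))
  have key : ∀ {q : ℕ}, Prod q → PW q 70 S := by
    rintro q ⟨a, b, ha, hb, hab⟩
    have h1 : IsPE q (e.symm a) := IsPE.of_prime (by rw [e.symm.orderOf_eq, ha])
    have h2 : IsPE q (e.symm b) := IsPE.of_prime (by rw [e.symm.orderOf_eq, hb])
    have h3 : PE q 2 (e.symm a * e.symm b) := h1.pe.mul h2.pe
    exact pw_of_pe hna h3 hD (hcent _ (by rw [← map_mul, e.symm.orderOf_eq, hab])) (k := 6) (by norm_num)
      (by norm_num) (by norm_num)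
  have hp' : p = 2 ∨ p = 3 ∨ p = 5 ∨ p = 7 ∨ p = 17 := by
    rw [hc] at hd
    have h1 : (4030387200 : ℕ) = 2 ^ 10 * 3 ^ 3 * 5 ^ 2 * 7 ^ 3 * 17 := by norm_num
    rw [h1] at hd
    rcases (Nat.Prime.dvd_mul hp).1 hd with hd | hd
    · rcases (Nat.Prime.dvd_mul hp).1 hd with hd | hd
      · rcases (Nat.Prime.dvd_mul hp).1 hd with hd | hd
        · rcases (Nat.Prime.dvd_mul hp).1 hd with hd | hd
          · exact Or.inl ((Nat.prime_dvd_prime_iff_eq hp (by norm_num)).1 (hp.dvd_of_dvd_pow hd))
          · exact Or.inr (Or.inl ((Nat.prime_dvd_prime_iff_eq hp (by norm_num)).1 (hp.dvd_of_dvd_pow hd)))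
        · exact Or.inr (Or.inr (Or.inl ((Nat.prime_dvd_prime_iff_eq hp (by norm_num)).1 (hp.dvd_of_dvd_pow hd))))
      · exact Or.inr (Or.inr (Or.inr (Or.inl ((Nat.prime_dvd_prime_iff_eq hp (by norm_num)).1 (hp.dvd_of_dvd_pow hd)))))
    · exact Or.inr (Or.inr (Or.inr (Or.inr ((Nat.prime_dvd_prime_iff_eq hp (by norm_num)).1 hd))))
  rcases hp' with rfl | rfl | rfl | rfl | rfl
  · exact key prod2
  · exact key prod3
  · exact key prod5
  · exact key prod7
  · exact pw_of_order hna h17 (by rw [hc]; norm_num) hD hcent (k := 6) (by norm_num) (by norm_num) (by norm_num)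

end Cfsg.Agent.H173.Pw
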